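import Groth.Agent.VarietyLib.NormRedLocal
import Mathlib.FieldTheory.PurelyInseparable.Basic
import Mathlib.RingTheory.Localization.Integral
import Mathlib.RingTheory.Localization.FractionRing
import Mathlib.RingTheory.Ideal.GoingUp
import Mathlib.FieldTheory.IsAlgClosed.AlgebraicClosure
import Mathlib.RingTheory.LocalRing.RingHom.Basic
import Mathlib.RingTheory.LocalRing.ResidueField.Basic

/-!
# Geometrically unibranch local rings of a domain and homomorphisms of the normalisation into fields
-/

set_option autoImplicit false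
set_option linter.style.haveILetI false

universe u

namespace Groth.Agent.Unibranch5

open IsLocalRing

variable {A : Type u} [CommRing A] [IsDomain A]

/-- Field-valued points of the normalisation are determined by their restriction. -/
def HomInj (A : Type u) [CommRing A] : Prop :=
  ∀ (L : Type u) [Field L] (φ ψ : integralClosure A (FractionRing A) →+* L),
    φ.comp (algebraMap A _) = ψ.comp (algebraMap A _) → φ = ψ

variable (p : Ideal A) [p.IsPrime] [Algebra (Localization.AtPrime p) (FractionRing A)]
  [IsScalarTower A (Localization.AtPrime p) (FractionRing A)]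
  [IsFractionRing (Localization.AtPrime p) (FractionRing A)]

local notation "O" => Localization.AtPrime p
local notation "C" => integralClosure (Localization.AtPrime p) (FractionRing A)
local notation "A'" => integralClosure A (FractionRing A)

/-- The normalisation maps to the local normalisation. -/
noncomputable def incl : A' →+* C :=
  (algebraMap A' (FractionRing A)).codRestrict (C).toSubring fun x =>
    (show IsIntegral A (x : FractionRing A) from x.2).tower_top

omit [IsDomain A] [IsFractionRing (Localization.AtPrime p) (FractionRing A)] in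
theorem incl_algebraMap (a : A) : incl p (algebraMap A A' a) = algebraMap O C (algebraMap A O a) :=
  Subtype.ext (IsScalarTower.algebraMap_apply A O (FractionRing A) a)

omit [IsDomain A] [IsFractionRing (Localization.AtPrime p) (FractionRing A)] in
theorem exists_mul_mem (c : C) : ∃ s ∉ p, ∃ a : A', algebraMap O C (algebraMap A O s) * c = incl p a := by
  obtain ⟨⟨s, hs⟩, h⟩ := IsIntegral.exists_multiple_integral_of_isLocalization p.primeCompl (c : FractionRing A) c.2
  refine ⟨s, hs, ⟨_, h⟩, Subtype.ext ?_⟩
  show algebraMap O (FractionRing A) (algebraMap A O s) * c = s • (c : FractionRing A)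
  rw [← IsScalarTower.algebraMap_apply, Algebra.smul_def]

/-- The conclusion in the local ring. -/
theorem eq_of_isGeomUnibranch (h : CAlg2.IsGeomUnibranch O) (L : Type u) [Field L] (φ ψ : A' →+* L)
    (hφ : φ.comp (algebraMap A _) = ψ.comp (algebraMap A _))
    (hp : RingHom.ker (φ.comp (algebraMap A _)) = p) : φ = ψ := by
  obtain ⟨⟨-, hloc⟩, hpow⟩ := h
  let e := VarietyLib.normRedEquiv O (FractionRing A)
  haveI : IsLocalRing C := (show CAlg2.normRed O ≃+* C from e).isLocalRing
  let m := maximalIdeal C
  have hrad : ∀ (θ : A' →+* L), θ.comp (algebraMap A _) = φ.comp (algebraMap A _) →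
      ∀ x : A', incl p x ∈ m → θ x = 0 := by
    intro θ hθ x hx
    have hJ : incl p x ∈ ((maximalIdeal O).map (algebraMap O C)).radical := by
      rw [Ideal.radical_eq_sInf, Submodule.mem_sInf]
      intro (J : Ideal C) ⟨hJ, hJp⟩
      haveI := hJp
      have hcomap : Ideal.comap (algebraMap O C) J = maximalIdeal O :=
        ((maximalIdeal.isMaximal O).eq_of_le (Ideal.comap_ne_top _ hJp.ne_top) (Ideal.map_le_iff_le_comap.1 hJ)).symm
      haveI : (Ideal.comap (algebraMap O C) J).IsMaximal := hcomap ▸ maximalIdeal.isMaximal O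
      haveI : J.IsMaximal := Ideal.isMaximal_of_isIntegral_of_isMaximal_comap J ‹_›
      rwa [IsLocalRing.eq_maximalIdeal ‹J.IsMaximal›]
    obtain ⟨N, hN⟩ := hJ
    have key : ∀ c ∈ (maximalIdeal O).map (algebraMap O C), ∃ s ∉ p, ∃ a : A', θ a = 0 ∧
        algebraMap O C (algebraMap A O s) * c = incl p a := by
      intro c hc
      induction hc using Submodule.span_induction with
      | mem c hc =>
        obtain ⟨o, ho, rfl⟩ := hc
        obtain ⟨⟨a, s, hs⟩, rfl⟩ := IsLocalization.mk'_surjective p.primeCompl o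
        dsimp only at ho ⊢
        refine ⟨s, hs, algebraMap A A' a, ?_, ?_⟩
        · have : a ∈ RingHom.ker (φ.comp (algebraMap A _)) := hp ▸
            (IsLocalization.AtPrime.mk'_mem_maximal_iff O p a ⟨s, hs⟩).1 ho
          rw [← hθ] at this
          exact this
        · rw [incl_algebraMap, ← map_mul]
          exact congrArg _ (IsLocalization.mk'_spec' O a ⟨s, hs⟩)
      | zero => exact ⟨1, fun h => (Ideal.IsPrime.ne_top ‹p.IsPrime›) ((Ideal.eq_top_iff_one _).2 h), 0,
          map_zero _, by simp⟩
      | add c d _ _ hc hd =>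
        obtain ⟨s, hs, a, ha, hsa⟩ := hc
        obtain ⟨t, ht, b, hb, htb⟩ := hd
        refine ⟨s * t, Ideal.IsPrime.mul_notMem ‹_› hs ht, algebraMap A A' t * a + algebraMap A A' s * b, ?_, ?_⟩
        · simp [ha, hb]
        · simp only [map_mul, map_add, incl_algebraMap, ← hsa, ← htb]; ring
      | smul d c _ hc =>
        obtain ⟨s, hs, a, ha, hsa⟩ := hc
        obtain ⟨t, ht, b, htb⟩ := exists_mul_mem p d
        refine ⟨s * t, Ideal.IsPrime.mul_notMem ‹_› hs ht, a * b, ?_, ?_⟩
        · rw [map_mul, ha, zero_mul]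
        · simp only [map_mul, ← hsa, ← htb, smul_eq_mul]; ring
    obtain ⟨s, hs, a, ha, hsa⟩ := key _ hN
    have he : algebraMap A A' s * x ^ N = a := by
      have h1 : incl p (algebraMap A A' s * x ^ N) = incl p a := by
        rw [map_mul, map_pow, incl_algebraMap, hsa]
      exact Subtype.ext (congrArg (fun z : C => (z : FractionRing A)) h1)
    have h2 := congrArg θ he
    rw [map_mul, map_pow, ha] at h2
    refine eq_zero_of_pow_eq_zero ((mul_eq_zero.1 h2).resolve_left fun h0 => hs ?_)
    rw [← hp, RingHom.mem_ker, ← hθ]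
    exact h0
  let m' := m.comap e.toRingHom
  haveI : m'.IsMaximal := Ideal.comap_isMaximal_of_surjective _ e.surjective
  refine RingHom.ext fun x => ?_
  obtain ⟨n, o, ho⟩ := hpow m' (Ideal.Quotient.mk m' (e.symm (incl p x)))
  set q := ringExpChar (CAlg2.normRed O ⧸ m')
  obtain ⟨⟨a, s, hs⟩, rfl⟩ := IsLocalization.mk'_surjective p.primeCompl o
  dsimp only at ho
  let _ : Field (CAlg2.normRed O ⧸ m') := Ideal.Quotient.field m'
  let y : A' := algebraMap A A' s * x ^ q ^ n - algebraMap A A' a
  have hy : incl p y ∈ m := by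
    rw [RingHom.comp_apply, RingHom.comp_apply, ← map_pow, eq_comm, Ideal.Quotient.eq] at ho
    have : e _ ∈ m := ho
    rw [map_sub, map_pow, e.apply_symm_apply, VarietyLib.normRedEquiv_mk] at this
    have := Ideal.mul_mem_left m (algebraMap O C (algebraMap A O s)) this
    have hsp : algebraMap A O s * IsLocalization.mk' O a ⟨s, hs⟩ = algebraMap A O a := IsLocalization.mk'_spec' O a ⟨s, hs⟩
    rw [mul_sub, ← map_mul (algebraMap O C), hsp] at this
    simpa [y, incl_algebraMap] using this
  have h1 := hrad φ rfl y hy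
  have h2 := hrad ψ hφ.symm y hy
  simp only [y, map_sub, map_mul, map_pow, sub_eq_zero] at h1 h2
  have hsn : φ (algebraMap A A' s) ≠ 0 := fun h0 => hs (hp ▸ h0)
  have heq : φ x ^ q ^ n = ψ x ^ q ^ n := by
    refine mul_left_cancel₀ hsn ?_
    rw [h1, show φ (algebraMap A A' s) = ψ (algebraMap A A' s) from RingHom.congr_fun hφ s, h2]
    exact RingHom.congr_fun hφ a
  obtain ⟨r, hr⟩ := ExpChar.exists (CAlg2.normRed O ⧸ m')
  have hqr : q = r := ringExpChar.eq _ r
  rcases hr with _ | hq
  · simpa [hqr] using heq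
  · rename_i hc
    rw [← hqr] at hc hq
    have hq0 : (q : L) = 0 := by
      have hqm : incl p (q : A') ∈ m := by
        have : ((q : CAlg2.normRed O)) ∈ m' := by
          rw [← Ideal.Quotient.eq_zero_iff_mem, map_natCast]
          exact CharP.cast_eq_zero _ q
        rw [map_natCast]
        simpa [m', Ideal.mem_comap] using this
      simpa using hrad φ rfl _ hqm
    haveI : Fact q.Prime := ⟨hq⟩
    haveI : CharP L q := (CharP.charP_iff_prime_eq_zero hq).2 hq0
    exact (iterateFrobenius_inj L q n) (by simpa [iterateFrobenius_def] using heq)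

/-- The converse in the local ring. -/
theorem isGeomUnibranch_of_homInj (h : HomInj A) : CAlg2.IsGeomUnibranch O := by
  let k := ResidueField O
  have hres : ∀ (J : Ideal C) [J.IsMaximal], ∀ o ∈ maximalIdeal O, algebraMap O C o ∈ J := fun J _ o ho => by
    have : (J.comap (algebraMap O C)).IsMaximal := Ideal.isMaximal_comap_of_isIntegral_of_isMaximal J
    rw [← Ideal.mem_comap, IsLocalRing.eq_maximalIdeal this]
    exact ho
  let ρ (J : Ideal C) [J.IsMaximal] : k →+* C ⧸ J :=
    Ideal.Quotient.lift _ ((Ideal.Quotient.mk J).comp (algebraMap O C))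
      fun o ho => Ideal.Quotient.eq_zero_iff_mem.2 (hres J o ho)
  have hext : ∀ (L : Type u) [Field L] (J J' : Ideal C) [J.IsMaximal] [J'.IsMaximal] (σ : C ⧸ J →+* L)
      (τ : C ⧸ J' →+* L), σ.comp (ρ J) = τ.comp (ρ J') →
        σ.comp (Ideal.Quotient.mk J) = τ.comp (Ideal.Quotient.mk J') := by
    intro L _ J J' _ _ σ τ hστ
    have hO : ∀ o : O, σ (Ideal.Quotient.mk J (algebraMap O C o)) = τ (Ideal.Quotient.mk J' (algebraMap O C o)) :=
      fun o => RingHom.congr_fun hστ (residue O o)
    have heq := h L ((σ.comp (Ideal.Quotient.mk J)).comp (incl p)) ((τ.comp (Ideal.Quotient.mk J')).comp (incl p))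
      (RingHom.ext fun a => by
        simp only [RingHom.comp_apply, incl_algebraMap]
        exact hO _)
    refine RingHom.ext fun c => ?_
    obtain ⟨s, hs, a, hsa⟩ := exists_mul_mem p c
    have h1 := RingHom.congr_fun heq a
    simp only [RingHom.comp_apply, ← hsa, map_mul, ← hO] at h1
    refine mul_left_cancel₀ ?_ h1
    exact ((IsUnit.map (algebraMap O C) (IsLocalization.map_units O (⟨s, hs⟩ : p.primeCompl))).map
      (σ.comp (Ideal.Quotient.mk J))).ne_zero
  let e := VarietyLib.normRedEquiv O (FractionRing A)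
  let Ω := AlgebraicClosure k
  have hlift : ∀ (J : Ideal C) [J.IsMaximal], ∃ σ : C ⧸ J →+* Ω, σ.comp (ρ J) = algebraMap k Ω := by
    intro J _
    letI := Ideal.Quotient.field J
    letI := (ρ J).toAlgebra
    haveI : Algebra.IsAlgebraic k (C ⧸ J) := by
      refine ⟨fun z => ?_⟩
      obtain ⟨c, rfl⟩ := Ideal.Quotient.mk_surjective z
      obtain ⟨P, hP, hPc⟩ := (show IsIntegral O c from Algebra.IsIntegral.isIntegral c)
      refine IsIntegral.isAlgebraic ⟨P.map (residue O), hP.map _, ?_⟩
      rw [Polynomial.eval₂_map]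
      have h0 := congrArg (Ideal.Quotient.mk J) hPc
      rwa [Polynomial.hom_eval₂, map_zero] at h0
    exact ⟨(IsAlgClosed.lift (R := k) (S := C ⧸ J) (M := Ω)).toRingHom, AlgHom.comp_algebraMap _⟩
  have hlocC : IsLocalRing C := by
    refine IsLocalRing.of_unique_max_ideal ?_
    obtain ⟨J, hJ⟩ := Ideal.exists_maximal C
    refine ⟨J, hJ, fun J' hJ' => ?_⟩
    haveI := hJ; haveI := hJ'
    obtain ⟨σ, hσ⟩ := hlift J
    obtain ⟨τ, hτ⟩ := hlift J'
    letI := Ideal.Quotient.field J
    letI := Ideal.Quotient.field J'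
    have := congrArg RingHom.ker (hext Ω J' J τ σ (hτ.trans hσ.symm))
    rw [RingHom.ker_comp_of_injective _ τ.injective, RingHom.ker_comp_of_injective _ σ.injective,
      Ideal.mk_ker, Ideal.mk_ker] at this
    exact this
  refine ⟨⟨(redEquiv_domain p), (show C ≃+* CAlg2.normRed O from e.symm).isLocalRing⟩, fun m' _ z => ?_⟩
  obtain ⟨r, rfl⟩ := Ideal.Quotient.mk_surjective z
  let J := m'.comap e.symm.toRingHom
  haveI : J.IsMaximal := Ideal.comap_isMaximal_of_surjective _ e.symm.surjective
  letI := Ideal.Quotient.field J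
  letI := Ideal.Quotient.field m'
  letI := (ρ J).toAlgebra
  haveI : IsPurelyInseparable k (C ⧸ J) := by
    rw [isPurelyInseparable_iff_finSepDegree_eq_one, Field.finSepDegree]
    haveI : Algebra.IsAlgebraic k (C ⧸ J) := by
      refine ⟨fun z => ?_⟩
      obtain ⟨c, rfl⟩ := Ideal.Quotient.mk_surjective z
      obtain ⟨P, hP, hPc⟩ := (show IsIntegral O c from Algebra.IsIntegral.isIntegral c)
      refine IsIntegral.isAlgebraic ⟨P.map (residue O), hP.map _, ?_⟩
      rw [Polynomial.eval₂_map]
      have h0 := congrArg (Ideal.Quotient.mk J) hPc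
      rwa [Polynomial.hom_eval₂, map_zero] at h0
    haveI : Subsingleton (Field.Emb k (C ⧸ J)) := ⟨fun σ τ => by
      have := hext _ J J σ.toRingHom τ.toRingHom (σ.comp_algebraMap.trans τ.comp_algebraMap.symm)
      exact AlgHom.coe_ringHom_injective ((RingHom.cancel_right Ideal.Quotient.mk_surjective).1 this)⟩
    exact Nat.card_of_subsingleton (IsAlgClosed.lift (M := AlgebraicClosure (C ⧸ J)))
  let eq : CAlg2.normRed O ⧸ m' ≃+* C ⧸ J := Ideal.quotientEquiv m' J e (by
    rw [Ideal.map_comap_of_equiv]; rfl)
  obtain ⟨q, hq⟩ := ExpChar.exists k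
  haveI : ExpChar (C ⧸ J) q := expChar_of_injective_ringHom (ρ J).injective q
  haveI : ExpChar (CAlg2.normRed O ⧸ m') q := expChar_of_injective_ringHom eq.symm.injective q
  rw [ringExpChar.eq _ q]
  obtain ⟨n, o, ho⟩ := IsPurelyInseparable.pow_mem k q (eq (Ideal.Quotient.mk m' r))
  obtain ⟨o, rfl⟩ := IsLocalRing.residue_surjective o
  refine ⟨n, o, eq.injective ?_⟩
  rw [map_pow]
  refine Eq.trans ?_ ho
  show Ideal.Quotient.mk J (e (algebraMap (CAlg2.red O) (CAlg2.normRed O) (Ideal.Quotient.mk _ o))) = _
  rw [VarietyLib.normRedEquiv_mk]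
  rfl
where
  redEquiv_domain (p : Ideal A) [p.IsPrime] : IsDomain (CAlg2.red (Localization.AtPrime p)) :=
    (VarietyLib.redEquiv (Localization.AtPrime p)).symm.injective.isDomain (VarietyLib.redEquiv _).symm.toRingHom

end Groth.Agent.Unibranch5
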